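import Cfsg.Agent.H331.F4.Val
import Cfsg.Agent.H290.Wei.CharOne
import Cfsg.Agent.H946.ExcSameBase

/-!
# S3691, row `F₄(q)`: the list of class 8 (helper331)

* `le_fac` : `A ∣ D * c`, `s ∤ D` ⇒ the multiplicity of `s` in `A` is at most that in `c`;
* `eq_psl3`, `eq_psl4`, ... : the order equations without the common factor;
* `ty8` (P6).
-/

set_option autoImplicit false

namespace Cfsg.Agent.H331.F4

open Cfsg Cfsg.Agent.H290.Wei Cfsg.Agent.OrdDiv Cfsg.Agent.H436 Cfsg.Agent.H915.GN Cfsg.Agent.H264.GN Cfsg.Agent.H264.FKS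
  Cfsg.Agent.H325.Same Cfsg.Agent.H946.KZ Cfsg.Agent.H187.F4 Cfsg.Agent.H425.Chr Cfsg.Agent.H946.Exc

theorem le_fac {s A D c : ℕ} (hD : ¬ s ∣ D) (hc : c ≠ 0) (h : A ∣ D * c) : A.factorization s ≤ c.factorization s := by
  have hD0 : D ≠ 0 := by
    rintro rfl
    exact hD (dvd_zero _)
  have hA : A ≠ 0 := by
    rintro rfl
    exact Nat.mul_ne_zero hD0 hc (Nat.zero_dvd.1 h)
  have h1 := (Nat.factorization_le_iff_dvd hA (Nat.mul_ne_zero hD0 hc)).2 h s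
  rw [Nat.factorization_mul hD0 hc, Finsupp.add_apply, Nat.factorization_eq_zero_of_not_dvd hD, zero_add] at h1
  exact h1

theorem not_dvd_of_dvd {s D : ℕ} (hs : 5 ≤ s) (hp : s.Prime) (hD : D ∣ 12) : ¬ s ∣ D := by
  intro h
  have h2 : s ∣ 2 ^ 2 * 3 := h.trans hD
  rcases hp.dvd_mul.1 h2 with h3 | h3
  · have h4 := Nat.le_of_dvd (by norm_num) (hp.dvd_of_dvd_pow h3)
    omega
  · have h4 := Nat.le_of_dvd (by norm_num) h3
    omega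

/-! ### the order equations -/

section

variable {Q c : ℕ}

theorem prB2 : prB Q 2 = (Q ^ 2 - 1) * (Q ^ 4 - 1) := by
  simp [prB, List.range_succ]

theorem prB3 : prB Q 3 = (Q ^ 2 - 1) * (Q ^ 4 - 1) * (Q ^ 6 - 1) := by
  simp [prB, List.range_succ, mul_assoc]

theorem prB4 : prB Q 4 = (Q ^ 2 - 1) * (Q ^ 4 - 1) * (Q ^ 6 - 1) * (Q ^ 8 - 1) := by
  simp [prB, List.range_succ, mul_assoc]

theorem prU4 : prU Q 4 = (Q + 1) * (Q ^ 2 - 1) * (Q ^ 3 + 1) * (Q ^ 4 - 1) := by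
  simp [prU, List.range_succ, mul_assoc]

theorem psl_prod {n : ℕ} (h : den (.psl n Q) * c = num (.psl n Q)) :
    Nat.gcd n (Q - 1) * (Q - 1) * c = Q ^ (n * (n - 1) / 2) * ∏ i ∈ Finset.range n, (Q ^ (i + 1) - 1) := by
  have h2 : Nat.gcd n (Q - 1) * (Q - 1) * c = glN n Q := h
  rw [h2, ← OrdCrit.prod_gl, Fin.prod_univ_eq_prod_range (fun i => Q ^ n - Q ^ i) n, ← prod_list]
  rfl

theorem eq_psl3 (hQ : 2 ≤ Q) (h : den (.psl 3 Q) * c = num (.psl 3 Q)) :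
    Nat.gcd 3 (Q - 1) * c = Q ^ 3 * ((Q ^ 2 - 1) * (Q ^ 3 - 1)) := by
  have h1 := psl_prod h
  simp only [Finset.prod_range_succ, Finset.prod_range_zero, one_mul, zero_add, pow_one] at h1
  have h2 : (Q - 1) * (Nat.gcd 3 (Q - 1) * c) = (Q - 1) * (Q ^ 3 * ((Q ^ 2 - 1) * (Q ^ 3 - 1))) := by
    calc (Q - 1) * (Nat.gcd 3 (Q - 1) * c) = Nat.gcd 3 (Q - 1) * (Q - 1) * c := by ring
      _ = _ := h1
      _ = Q ^ 3 * ((Q - 1) * (Q ^ (1 + 1) - 1) * (Q ^ (2 + 1) - 1)) := rfl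
      _ = _ := by norm_num; ring
  exact Nat.eq_of_mul_eq_mul_left (by omega) h2

theorem eq_psl4 (hQ : 2 ≤ Q) (h : den (.psl 4 Q) * c = num (.psl 4 Q)) :
    Nat.gcd 4 (Q - 1) * c = Q ^ 6 * ((Q ^ 2 - 1) * (Q ^ 3 - 1) * (Q ^ 4 - 1)) := by
  have h1 := psl_prod h
  simp only [Finset.prod_range_succ, Finset.prod_range_zero, one_mul, zero_add, pow_one] at h1
  have h2 : (Q - 1) * (Nat.gcd 4 (Q - 1) * c) = (Q - 1) * (Q ^ 6 * ((Q ^ 2 - 1) * (Q ^ 3 - 1) * (Q ^ 4 - 1))) := by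
    calc (Q - 1) * (Nat.gcd 4 (Q - 1) * c) = Nat.gcd 4 (Q - 1) * (Q - 1) * c := by ring
      _ = _ := h1
      _ = Q ^ 6 * ((Q - 1) * (Q ^ (1 + 1) - 1) * (Q ^ (2 + 1) - 1) * (Q ^ (3 + 1) - 1)) := rfl
      _ = _ := by norm_num; ring
  exact Nat.eq_of_mul_eq_mul_left (by omega) h2

theorem eq_psu4 (h : den (.psu 4 Q) * c = num (.psu 4 Q)) :
    Nat.gcd 4 (Q + 1) * c = Q ^ 6 * ((Q ^ 2 - 1) * (Q ^ 3 + 1) * (Q ^ 4 - 1)) := by
  have h1 : Nat.gcd 4 (Q + 1) * (Q + 1) * c = Q ^ (4 * (4 - 1) / 2) * prU Q 4 := h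
  rw [prU4] at h1
  have h2 : (Q + 1) * (Nat.gcd 4 (Q + 1) * c) = (Q + 1) * (Q ^ 6 * ((Q ^ 2 - 1) * (Q ^ 3 + 1) * (Q ^ 4 - 1))) := by
    calc (Q + 1) * (Nat.gcd 4 (Q + 1) * c) = Nat.gcd 4 (Q + 1) * (Q + 1) * c := by ring
      _ = _ := h1
      _ = Q ^ 6 * ((Q + 1) * (Q ^ 2 - 1) * (Q ^ 3 + 1) * (Q ^ 4 - 1)) := rfl
      _ = _ := by ring
  exact Nat.eq_of_mul_eq_mul_left (by omega) h2

end

section

variable {p f s t c : ℕ}

theorem eQ {a k : ℕ} (m : ℕ) (h : a * k = m) : (p ^ (a * f)) ^ k = (p ^ f) ^ m := by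
  rw [← pow_mul, ← pow_mul, ← h]
  congr 1
  ring

theorem v4_pos (hp : 2 ≤ p) (hf : 1 ≤ f) (hs : Prim p (f * 4) s) : 1 ≤ v4 p f s := by
  refine hs.prime.factorization_pos_of_dvd (sub_ne hp hf (by norm_num)) ?_
  rw [← pow_mul]
  exact hs.dvd dvd_rfl

theorem three (hp : p.Prime) (hf : 1 ≤ f) (hs : Prim p (f * 4) s) (hdvd : c ∣ num (.f4 (p ^ f))) (hc : c ≠ 0)
    {D N : ℕ} (e : D * c = N) (hD : ¬ s ∣ D)
    (h : ((p ^ f) ^ 4 - 1) * ((p ^ f) ^ 8 - 1) * ((p ^ f) ^ 12 - 1) ∣ N) : False := by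
  subst e
  have h1 := le_fac hD hc h
  have n4 := sub_ne hp.two_le hf (m := 4) (by norm_num)
  have n8 := sub_ne hp.two_le hf (m := 8) (by norm_num)
  have n12 := sub_ne hp.two_le hf (m := 12) (by norm_num)
  rw [Nat.factorization_mul (Nat.mul_ne_zero n4 n8) n12, Nat.factorization_mul n4 n8] at h1
  simp only [Finsupp.add_apply] at h1
  rw [s4 hp.two_le hf hs (m := 4) (by norm_num), s4 hp.two_le hf hs (m := 8) (by norm_num),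
    s4 hp.two_le hf hs (m := 12) (by norm_num)] at h1
  have h2 := (Nat.factorization_le_iff_dvd hc (num_ne hp.two_le hf)).2 hdvd s
  rw [val_s hp hf hs] at h2
  have h3 := v4_pos hp.two_le hf hs
  omega

theorem two_s (hp : p.Prime) (hf : 1 ≤ f) (hs : Prim p (f * 4) s) (hc : c ≠ 0) {D N : ℕ} (e : D * c = N)
    (hD : ¬ s ∣ D) (h : ((p ^ f) ^ 4 - 1) * ((p ^ f) ^ 8 - 1) ∣ N) : 2 * v4 p f s ≤ c.factorization s := by
  subst e
  have h1 := le_fac hD hc h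
  have n4 := sub_ne hp.two_le hf (m := 4) (by norm_num)
  have n8 := sub_ne hp.two_le hf (m := 8) (by norm_num)
  rw [Nat.factorization_mul n4 n8] at h1
  simp only [Finsupp.add_apply] at h1
  rw [s4 hp.two_le hf hs (m := 4) (by norm_num), s4 hp.two_le hf hs (m := 8) (by norm_num)] at h1
  omega

theorem one_s (hp : p.Prime) (hf : 1 ≤ f) (hs : Prim p (f * 4) s) (hc : c ≠ 0) {D N m : ℕ} (e : D * c = N)
    (hD : ¬ s ∣ D) (hm : m = 4 ∨ m = 8 ∨ m = 12) (h : (p ^ f) ^ m - 1 ∣ N) :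
    v4 p f s ≤ c.factorization s := by
  subst e
  have h1 := le_fac hD hc h
  rwa [s4 hp.two_le hf hs hm] at h1

theorem one_t (hp : p.Prime) (hf : 1 ≤ f) (ht : Prim p (f * 3) t) (hc : c ≠ 0) {D N m : ℕ} (e : D * c = N)
    (hD : ¬ t ∣ D) (hm : m = 3 ∨ m = 6 ∨ m = 12) (h : (p ^ f) ^ m - 1 ∣ N) :
    w3 p f t ≤ c.factorization t := by
  subst e
  have h1 := le_fac hD hc h
  rwa [t3 hp.two_le hf ht hm] at h1

end


section

variable {p f f₁ c : ℕ} {g : Grp}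

theorem tyC_of (H : Dt p f₁ c g) {E : ℕ} (hE : ex g = E) (h : f₁ * E ≤ 8 * f) : TyC p f c := by
  have h1 := H.fac
  rw [hE] at h1
  unfold TyC
  omega

theorem quot (hf : 1 ≤ f) (k : ℕ) : f * k / Nat.gcd (f * k) f = k := by
  rw [Nat.gcd_eq_right (Dvd.intro _ rfl)]
  exact Nat.mul_div_cancel_left k hf

theorem dt_f4 (hp : p.Prime) (hf : 1 ≤ f) : Dt p f (num (.f4 (p ^ f))) (.f4 (p ^ f)) := by
  refine ⟨hp, by omega, num_ne hp.two_le hf, ?_, rfl, ?_⟩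
  · exact hp.isPrimePow.pow (by omega)
  · change 1 * _ = _
    rw [one_mul]

/-- (P6) -/
theorem ty8 (hp : p.Prime) (hf : 1 ≤ f) (_h5 : 5 ≤ p ^ f) (hg : Cond g) (hch : HasChar p g) (hc : den g * c = num g)
    (hdvd : c ∣ num (.f4 (p ^ f))) (hz : ZT p f 8 c) {s t : ℕ} (hs : Prim p (f * 4) s) (ht : Prim p (f * 3) t) :
    g = .f4 (p ^ f) ∨ TyC p f c ∨ TyD p f s t c ∨ TyE p f s t c := by
  have hc0 : c ≠ 0 := by
    rintro rfl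
    exact num_ne hp.two_le hf (Nat.zero_dvd.1 hdvd)
  have hs5 := five_le hf hs
  have ht5 : 5 ≤ t := by have := seven_le hf ht; omega
  have hDs : ∀ D : ℕ, D ∣ 12 → ¬ s ∣ D := fun D h => not_dvd_of_dvd hs5 hs.prime h
  have hDt : ∀ D : ℕ, D ∣ 12 → ¬ t ∣ D := fun D h => not_dvd_of_dvd ht5 ht.prime h
  have g2 : ∀ Q : ℕ, Nat.gcd 2 Q ∣ 12 := fun Q => (Nat.gcd_dvd_left 2 Q).trans (by norm_num)
  have g3 : ∀ Q : ℕ, Nat.gcd 3 Q ∣ 12 := fun Q => (Nat.gcd_dvd_left 3 Q).trans (by norm_num)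
  have g4 : ∀ Q : ℕ, Nat.gcd 4 Q ∣ 12 := fun Q => (Nat.gcd_dvd_left 4 Q).trans (by norm_num)
  have hpq : ∀ k : ℕ, k ≠ 0 → 2 ≤ p ^ k := fun k hk => hp.two_le.trans (Nat.le_self_pow hk p)
  obtain ⟨f₁, hf₁, h⟩ := charp_f4_8 hp hf hg hch hc hdvd hz
  rcases h with ⟨hi, rfl⟩ | ⟨hi, rfl⟩ | ⟨hi, rfl⟩ | ⟨hi, rfl⟩ | ⟨hi, rfl⟩ | ⟨hi, rfl⟩ | ⟨hi, rfl⟩ | ⟨hi, rfl⟩ |
    ⟨hi, rfl⟩ | ⟨hi, rfl⟩ | ⟨hi, rfl⟩ | ⟨hi, rfl⟩ | ⟨hi, rfl⟩ | ⟨hi, rfl⟩ | ⟨hi, rfl⟩ | ⟨hi, rfl⟩ | ⟨hi, rfl⟩ |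
    ⟨hi, rfl⟩ | ⟨hi, rfl⟩ | ⟨hi, rfl⟩ | ⟨hi, rfl⟩ | ⟨hi, rfl⟩ | ⟨hi, rfl⟩ | ⟨hi, rfl⟩ | ⟨hi, rfl⟩ | ⟨hi, rfl⟩ |
    ⟨hi, rfl⟩
  -- 1: psl 2 (q^4)
  · exact Or.inr (Or.inl (tyC_of (E := 1) ⟨hp, by omega, hc0, hg, rfl, hc⟩ rfl (by omega)))
  -- 2: psl 4 (q^2)
  · obtain rfl : f₁ = 2 * f := by omega
    have e := eq_psl4 (hpq _ (by omega)) hc
    refine Or.inr (Or.inr (Or.inl ⟨?_, ?_, ?_⟩))
    · have h1 : c.factorization p = 2 * f * 6 := Dt.fac ⟨hp, by omega, hc0, hg, rfl, hc⟩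
      omega
    · refine one_t hp hf ht hc0 e (hDt _ (g4 _)) (m := 6) (by norm_num) ?_
      rw [← eQ (a := 2) (k := 3) 6 rfl]
      exact (((dvd_refl _).mul_left _).mul_right _).mul_left _
    · refine one_s hp hf hs hc0 e (hDs _ (g4 _)) (m := 4) (by norm_num) ?_
      rw [← eQ (a := 2) (k := 2) 4 rfl]
      exact (((dvd_refl _).mul_right _).mul_right _).mul_left _
  -- 3: psp 2 (q^2)
  · exact Or.inr (Or.inl (tyC_of (E := 4) ⟨hp, by omega, hc0, hg, rfl, hc⟩ rfl (by omega)))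
  -- 4: psp 4 (q)
  · obtain rfl : f₁ = f := by omega
    have e : Nat.gcd 2 (p ^ f₁ - 1) * c = (p ^ f₁) ^ 16 * prB (p ^ f₁) 4 := hc
    rw [prB4] at e
    refine Or.inr (Or.inr (Or.inr ⟨?_, ?_, ?_⟩))
    · have h1 : c.factorization p = f₁ * 16 := Dt.fac ⟨hp, by omega, hc0, hg, rfl, hc⟩
      omega
    · refine one_t hp hf ht hc0 e (hDt _ (g2 _)) (m := 6) (by norm_num) ?_
      exact (((dvd_refl _).mul_left _).mul_right _).mul_left _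
    · refine two_s hp hf hs hc0 e (hDs _ (g2 _)) ?_
      exact ⟨(p ^ f₁) ^ 16 * (((p ^ f₁) ^ 2 - 1) * ((p ^ f₁) ^ 6 - 1)), by ring⟩
  -- 5: oodd 4 (q)
  · obtain rfl : f₁ = f := by omega
    have e : 2 * c = (p ^ f₁) ^ 16 * prB (p ^ f₁) 4 := hc
    rw [prB4] at e
    refine Or.inr (Or.inr (Or.inr ⟨?_, ?_, ?_⟩))
    · have h1 : c.factorization p = f₁ * 16 := Dt.fac ⟨hp, by omega, hc0, hg, rfl, hc⟩
      omega
    · refine one_t hp hf ht hc0 e (hDt 2 (by norm_num)) (m := 6) (by norm_num) ?_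
      exact (((dvd_refl _).mul_left _).mul_right _).mul_left _
    · refine two_s hp hf hs hc0 e (hDs 2 (by norm_num)) ?_
      exact ⟨(p ^ f₁) ^ 16 * (((p ^ f₁) ^ 2 - 1) * ((p ^ f₁) ^ 6 - 1)), by ring⟩
  -- 6: psu 3
  · exact Or.inr (Or.inl (tyC_of (E := 3) ⟨hp, by omega, hc0, hg, rfl, hc⟩ rfl (by omega)))
  -- 7: oplus 5 (q)
  · exfalso
    obtain rfl : f₁ = f := by omega
    obtain ⟨r, hr⟩ := exists_prim (q := p) (e := f₁ * 5) hp.two_le (by omega) (by omega)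
    have H : Dt p f₁ c (.oplus 5 (p ^ f₁)) := ⟨hp, by omega, hc0, hg, rfl, hc⟩
    have h1 : r ∣ c := (H.dvd_iff (by omega) hr).2 (by
      rw [quot hf]
      exact Or.inl ⟨by norm_num, Or.inl dvd_rfl⟩)
    have h2 := ((dt_f4 hp hf).dvd_iff (by omega) hr).1 (h1.trans hdvd)
    rw [quot hf] at h2
    rcases h2 with ⟨-, h2⟩ | ⟨-, h2, -⟩
    · have h3 : 5 ∣ 2 ∨ 5 ∣ 6 ∨ 5 ∣ 8 ∨ 5 ∣ 12 := h2
      omega
    · omega
  -- 8: ominus 4 (q)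
  · obtain rfl : f₁ = f := by omega
    have e : Nat.gcd 4 ((p ^ f₁) ^ 4 + 1) * c = (p ^ f₁) ^ 12 * (((p ^ f₁) ^ 4 + 1) * prB (p ^ f₁) 3) := hc
    rw [prB3] at e
    refine Or.inr (Or.inr (Or.inl ⟨?_, ?_, ?_⟩))
    · have h1 : c.factorization p = f₁ * 12 := Dt.fac ⟨hp, by omega, hc0, hg, rfl, hc⟩
      omega
    · refine one_t hp hf ht hc0 e (hDt _ (g4 _)) (m := 6) (by norm_num) ?_
      exact (((dvd_refl _).mul_left _).mul_left _).mul_left _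
    · refine one_s hp hf hs hc0 e (hDs _ (g4 _)) (m := 4) (by norm_num) ?_
      exact ((((dvd_refl _).mul_left _).mul_right _).mul_left _).mul_left _
  -- 9: g2
  · exact Or.inr (Or.inl (tyC_of (E := 6) ⟨hp, by omega, hc0, hg, rfl, hc⟩ rfl (by omega)))
  -- 10: td4
  · exact Or.inr (Or.inl (tyC_of (E := 12) ⟨hp, by omega, hc0, hg, rfl, hc⟩ rfl (by omega)))
  -- 11: sz
  · exact Or.inr (Or.inl (tyC_of (E := 2) ⟨hp, by omega, hc0, hg, rfl, hc⟩ rfl (by omega)))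
  -- 12: ree
  · exact Or.inr (Or.inl (tyC_of (E := 3) ⟨hp, by omega, hc0, hg, rfl, hc⟩ rfl (by omega)))
  -- 13: tf4
  · exact Or.inr (Or.inl (tyC_of (E := 12) ⟨hp, by omega, hc0, hg, rfl, hc⟩ rfl (by omega)))
  -- 14: psl 2 (q^6)
  · exact Or.inr (Or.inl (tyC_of (E := 1) ⟨hp, by omega, hc0, hg, rfl, hc⟩ rfl (by omega)))
  -- 15: psl 3 (q^4)
  · obtain rfl : f₁ = 4 * f := by omega
    have e := eq_psl3 (hpq _ (by omega)) hc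
    refine Or.inr (Or.inr (Or.inl ⟨?_, ?_, ?_⟩))
    · have h1 : c.factorization p = 4 * f * 3 := Dt.fac ⟨hp, by omega, hc0, hg, rfl, hc⟩
      omega
    · refine one_t hp hf ht hc0 e (hDt _ (g3 _)) (m := 12) (by norm_num) ?_
      rw [← eQ (a := 4) (k := 3) 12 rfl]
      exact ((dvd_refl _).mul_left _).mul_left _
    · refine one_s hp hf hs hc0 e (hDs _ (g3 _)) (m := 8) (by norm_num) ?_
      rw [← eQ (a := 4) (k := 2) 8 rfl]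
      exact ((dvd_refl _).mul_right _).mul_left _
  -- 16: psp 2 (q^3)
  · obtain rfl : f₁ = 3 * f := by omega
    have e : Nat.gcd 2 (p ^ (3 * f) - 1) * c = (p ^ (3 * f)) ^ 4 * prB (p ^ (3 * f)) 2 := hc
    rw [prB2] at e
    refine Or.inr (Or.inr (Or.inl ⟨?_, ?_, ?_⟩))
    · have h1 : c.factorization p = 3 * f * 4 := Dt.fac ⟨hp, by omega, hc0, hg, rfl, hc⟩
      omega
    · refine one_t hp hf ht hc0 e (hDt _ (g2 _)) (m := 6) (by norm_num) ?_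
      rw [← eQ (a := 3) (k := 2) 6 rfl]
      exact ((dvd_refl _).mul_right _).mul_left _
    · refine one_s hp hf hs hc0 e (hDs _ (g2 _)) (m := 12) (by norm_num) ?_
      rw [← eQ (a := 3) (k := 4) 12 rfl]
      exact ((dvd_refl _).mul_left _).mul_left _
  -- 17: psp 3 (q^2)
  · exfalso
    obtain rfl : f₁ = 2 * f := by omega
    have e : Nat.gcd 2 (p ^ (2 * f) - 1) * c = (p ^ (2 * f)) ^ 9 * prB (p ^ (2 * f)) 3 := hc
    rw [prB3] at e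
    refine three hp hf hs hdvd hc0 e (hDs _ (g2 _)) ?_
    rw [← eQ (a := 2) (k := 2) 4 rfl, ← eQ (a := 2) (k := 4) 8 rfl, ← eQ (a := 2) (k := 6) 12 rfl]
    exact (dvd_refl _).mul_left _
  -- 18: oodd 3 (q^2)
  · exfalso
    obtain rfl : f₁ = 2 * f := by omega
    have e : 2 * c = (p ^ (2 * f)) ^ 9 * prB (p ^ (2 * f)) 3 := hc
    rw [prB3] at e
    refine three hp hf hs hdvd hc0 e (hDs 2 (by norm_num)) ?_
    rw [← eQ (a := 2) (k := 2) 4 rfl, ← eQ (a := 2) (k := 4) 8 rfl, ← eQ (a := 2) (k := 6) 12 rfl]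
    exact (dvd_refl _).mul_left _
  -- 19: psu 3 (q^2)
  · exact Or.inr (Or.inl (tyC_of (E := 3) ⟨hp, by omega, hc0, hg, rfl, hc⟩ rfl (by omega)))
  -- 20: psu 4 (q^2)
  · exfalso
    obtain rfl : f₁ = 2 * f := by omega
    have e := eq_psu4 hc
    have h6 : ¬ s ∣ (p ^ f) ^ 6 - 1 := not_dvd_q0 hf hs (by norm_num)
    have hD : ¬ s ∣ ((p ^ f) ^ 6 - 1) * Nat.gcd 4 (p ^ (2 * f) + 1) := by
      intro h
      rcases hs.prime.dvd_mul.1 h with h | h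
      · exact h6 h
      · exact hDs _ (g4 _) h
    have e' : ((p ^ f) ^ 6 - 1) * Nat.gcd 4 (p ^ (2 * f) + 1) * c = ((p ^ f) ^ 6 - 1) *
        ((p ^ (2 * f)) ^ 6 * (((p ^ (2 * f)) ^ 2 - 1) * ((p ^ (2 * f)) ^ 3 + 1) * ((p ^ (2 * f)) ^ 4 - 1))) := by
      rw [mul_assoc, e]
    refine three hp hf hs hdvd hc0 e' hD ?_
    have h12 : (p ^ f) ^ 12 - 1 = ((p ^ f) ^ 6 - 1) * ((p ^ f) ^ 6 + 1) := by
      have h1 : 1 ≤ (p ^ f) ^ 6 := Nat.one_le_pow _ _ (pow_pos hp.pos _)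
      have h2 := Nat.sq_sub_sq ((p ^ f) ^ 6) 1
      rw [one_pow, ← pow_mul] at h2
      rw [h2]
      ring
    rw [h12, ← eQ (a := 2) (k := 2) 4 rfl, ← eQ (a := 2) (k := 4) 8 rfl, ← eQ (a := 2) (k := 3) 6 rfl]
    exact ⟨(p ^ (2 * f)) ^ 6, by ring⟩
  -- 21: oplus 4 (q^2)
  · exfalso
    obtain rfl : f₁ = 2 * f := by omega
    have e : Nat.gcd 4 ((p ^ (2 * f)) ^ 4 - 1) * c =
        (p ^ (2 * f)) ^ 12 * (((p ^ (2 * f)) ^ 4 - 1) * prB (p ^ (2 * f)) 3) := hc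
    rw [prB3] at e
    refine three hp hf hs hdvd hc0 e (hDs _ (g4 _)) ?_
    rw [← eQ (a := 2) (k := 2) 4 rfl, ← eQ (a := 2) (k := 4) 8 rfl, ← eQ (a := 2) (k := 6) 12 rfl]
    exact ((dvd_refl _).mul_left _).mul_left _
  -- 22: g2 (q^2)
  · obtain rfl : f₁ = 2 * f := by omega
    have e : 1 * c = (p ^ (2 * f)) ^ 6 * (((p ^ (2 * f)) ^ 2 - 1) * ((p ^ (2 * f)) ^ 6 - 1)) := hc
    refine Or.inr (Or.inr (Or.inl ⟨?_, ?_, ?_⟩))
    · have h1 : c.factorization p = 2 * f * 6 := Dt.fac ⟨hp, by omega, hc0, hg, rfl, hc⟩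
      omega
    · refine one_t hp hf ht hc0 e (hDt 1 (by norm_num)) (m := 12) (by norm_num) ?_
      rw [← eQ (a := 2) (k := 6) 12 rfl]
      exact ((dvd_refl _).mul_left _).mul_left _
    · refine one_s hp hf hs hc0 e (hDs 1 (by norm_num)) (m := 4) (by norm_num) ?_
      rw [← eQ (a := 2) (k := 2) 4 rfl]
      exact ((dvd_refl _).mul_right _).mul_left _
  -- 23: f4 (q)
  · obtain rfl : f₁ = f := by omega
    exact Or.inl rfl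
  -- 24: td4 (q)
  · exfalso
    obtain rfl : f₁ = f := by omega
    obtain ⟨r, hr⟩ := exists_prim (q := p) (e := f₁ * 8) hp.two_le (by omega) (by omega)
    have H : Dt p f₁ c (.td4 (p ^ f₁)) := ⟨hp, by omega, hc0, hg, rfl, hc⟩
    have h2 := (H.dvd_iff (by omega) hr).1 (hz r hr)
    rw [quot hf] at h2
    rcases h2 with ⟨-, h2⟩ | ⟨-, h2, -⟩
    · have h3 : 8 ∣ 2 ∨ 8 ∣ 6 ∨ (8 ∣ 12 ∧ ¬ 8 ∣ 4) := h2
      omega
    · omega
  -- 25: sz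
  · exact Or.inr (Or.inl (tyC_of (E := 2) ⟨hp, by omega, hc0, hg, rfl, hc⟩ rfl (by omega)))
  -- 26: ree
  · exact Or.inr (Or.inl (tyC_of (E := 3) ⟨hp, by omega, hc0, hg, rfl, hc⟩ rfl (by omega)))
  -- 27: tf4 (q)
  · exfalso
    obtain rfl : f₁ = f := by omega
    obtain ⟨r, hr⟩ := exists_prim (q := p) (e := f₁ * 8) hp.two_le (by omega) (by omega)
    have H : Dt p f₁ c (.tf4 (p ^ f₁)) := ⟨hp, by omega, hc0, hg, rfl, hc⟩
    have h2 := (H.dvd_iff (by omega) hr).1 (hz r hr)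
    rw [quot hf] at h2
    rcases h2 with ⟨-, h2⟩ | ⟨-, h2, -⟩
    · have h3 : 8 ∣ 1 ∨ (8 ∣ 2 * 3 ∧ ¬ 8 ∣ 3) ∨ 8 ∣ 4 ∨ (8 ∣ 2 * 6 ∧ ¬ 8 ∣ 6) := h2
      omega
    · omega

end

end Cfsg.Agent.H331.F4
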