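import Cfsg.Agent.H187.F4.Defs
import Cfsg.Agent.H425.PartP

/-!
# S3691, row `F₄(q)`: multiplicities of the primes of classes 3 and 4 (helper331)

* `dvd_sub_one`, `fac_mul` (lifting the exponent), `fac_q`, `fac_q0`;
* `val_s`, `val_t`, `val_p` (P4).
-/

set_option autoImplicit false

namespace Cfsg.Agent.H331.F4

open Cfsg Cfsg.Agent.OrdDiv Cfsg.Agent.H436 Cfsg.Agent.H187.F4

theorem dvd_sub_one {p e s : ℕ} (h : Prim p e s) : e ∣ s - 1 := by
  rw [← h.dvd_iff]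
  have hs := h.prime
  have h1 : Nat.Coprime p s := ((Nat.Prime.coprime_iff_not_dvd hs).2 h.not_dvd).symm
  have h2 : p ^ (s - 1) ≡ 1 [MOD s] := by
    have := Nat.ModEq.pow_totient h1
    rwa [Nat.totient_prime hs] at this
  have h3 : 1 ≤ p ^ (s - 1) :=
    Nat.one_le_pow _ _ (Nat.pos_of_ne_zero fun h0 => h.not_dvd (h0 ▸ dvd_zero _))
  exact (Nat.modEq_iff_dvd' h3).1 h2.symm

/-- lifting the exponent -/
theorem fac_mul {p e s k : ℕ} (hp : 2 ≤ p) (he : 2 ≤ e) (h : Prim p e s) (hk : k ≠ 0) (hsk : ¬ s ∣ k) :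
    (p ^ (e * k) - 1).factorization s = (p ^ e - 1).factorization s := by
  have : Fact s.Prime := ⟨h.prime⟩
  have h1 := padicValNat.pow_sub_pow (p := s) (x := p ^ e) (y := 1) (Nat.odd_iff.2 (h.odd he))
    (Nat.one_lt_pow (by omega) hp) (h.dvd dvd_rfl) (h.not_dvd_pow e) hk
  rw [one_pow, ← pow_mul] at h1
  rw [Nat.factorization_def _ h.prime, Nat.factorization_def _ h.prime, h1,
    padicValNat.eq_zero_of_not_dvd hsk, add_zero]

section

variable {p f e s : ℕ}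

theorem fac_q (hp : 2 ≤ p) (hf : 1 ≤ f) (he : 2 ≤ e) (h : Prim p (f * e) s) {m : ℕ} (k : ℕ) (hm : m = e * k)
    (hk : k ≠ 0) (hsk : ¬ s ∣ k) : ((p ^ f) ^ m - 1).factorization s = ((p ^ f) ^ e - 1).factorization s := by
  have h1 : 2 ≤ f * e := by nlinarith
  rw [← pow_mul, ← pow_mul, hm, ← mul_assoc]
  exact fac_mul hp h1 h hk hsk

theorem fac_q0 (hf : 1 ≤ f) (h : Prim p (f * e) s) {m : ℕ} (hm : ¬ e ∣ m) :
    ((p ^ f) ^ m - 1).factorization s = 0 := by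
  rw [← pow_mul]
  exact Nat.factorization_eq_zero_of_not_dvd (h.not_dvd_sub fun hd => hm (Nat.dvd_of_mul_dvd_mul_left hf hd))

theorem not_dvd_q0 (hf : 1 ≤ f) (h : Prim p (f * e) s) {m : ℕ} (hm : ¬ e ∣ m) : ¬ s ∣ (p ^ f) ^ m - 1 := by
  rw [← pow_mul]
  exact h.not_dvd_sub fun hd => hm (Nat.dvd_of_mul_dvd_mul_left hf hd)

theorem sub_ne (hp : 2 ≤ p) (hf : 1 ≤ f) {m : ℕ} (hm : m ≠ 0) : (p ^ f) ^ m - 1 ≠ 0 := by
  have h1 : 2 ≤ p ^ f := hp.trans (Nat.le_self_pow (by omega) p)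
  have h2 : 1 < (p ^ f) ^ m := Nat.one_lt_pow hm h1
  omega

theorem five_le (_hf : 1 ≤ f) (h : Prim p (f * 4) s) : 5 ≤ s := by
  have h1 := dvd_sub_one h
  have h2 : 4 ∣ s - 1 := (Dvd.intro_left f rfl).trans h1
  have h3 := h.prime.two_le
  have h4 := Nat.le_of_dvd (by omega) h2
  omega

theorem seven_le (hf : 1 ≤ f) {t : ℕ} (h : Prim p (f * 3) t) : 7 ≤ t := by
  have h1 := dvd_sub_one h
  have h2 : 3 ∣ t - 1 := (Dvd.intro_left f rfl).trans h1
  have h3 := h.prime.two_le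
  have h4 := h.odd (by omega)
  omega

/-! ### class 4 -/

theorem s4 (hp : 2 ≤ p) (hf : 1 ≤ f) (h : Prim p (f * 4) s) {m : ℕ} (hm : m = 4 ∨ m = 8 ∨ m = 12) :
    ((p ^ f) ^ m - 1).factorization s = v4 p f s := by
  have h5 := five_le hf h
  have key : ∀ k, 1 ≤ k → k ≤ 4 → ¬ s ∣ k := fun k h1 h2 h3 => by
    have := Nat.le_of_dvd h1 h3
    omega
  rcases hm with rfl | rfl | rfl
  · rfl
  · exact fac_q hp hf (by norm_num) h 2 rfl (by norm_num) (key 2 (by norm_num) (by norm_num))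
  · exact fac_q hp hf (by norm_num) h 3 rfl (by norm_num) (key 3 (by norm_num) (by norm_num))

theorem s0 (hf : 1 ≤ f) (h : Prim p (f * 4) s) {m : ℕ} (hm : ¬ 4 ∣ m) :
    ((p ^ f) ^ m - 1).factorization s = 0 := fac_q0 hf h hm

/-! ### class 3 -/

theorem t3 (hp : 2 ≤ p) (hf : 1 ≤ f) {t : ℕ} (h : Prim p (f * 3) t) {m : ℕ} (hm : m = 3 ∨ m = 6 ∨ m = 12) :
    ((p ^ f) ^ m - 1).factorization t = w3 p f t := by
  have h5 := seven_le hf h
  have key : ∀ k, 1 ≤ k → k ≤ 6 → ¬ t ∣ k := fun k h1 h2 h3 => by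
    have := Nat.le_of_dvd h1 h3
    omega
  rcases hm with rfl | rfl | rfl
  · rfl
  · exact fac_q hp hf (by norm_num) h 2 rfl (by norm_num) (key 2 (by norm_num) (by norm_num))
  · exact fac_q hp hf (by norm_num) h 4 rfl (by norm_num) (key 4 (by norm_num) (by norm_num))

theorem t0 (hf : 1 ≤ f) {t : ℕ} (h : Prim p (f * 3) t) {m : ℕ} (hm : ¬ 3 ∣ m) :
    ((p ^ f) ^ m - 1).factorization t = 0 := fac_q0 hf h hm

theorem num_f4 : num (.f4 (p ^ f)) =
    (p ^ f) ^ 24 * (((p ^ f) ^ 2 - 1) * ((p ^ f) ^ 6 - 1) * ((p ^ f) ^ 8 - 1) * ((p ^ f) ^ 12 - 1)) := rfl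

theorem fac_pow_q (h : Prim p (f * e) s) (m : ℕ) : ((p ^ f) ^ m).factorization s = 0 := by
  rw [← pow_mul]
  exact Nat.factorization_eq_zero_of_not_dvd (h.not_dvd_pow _)

theorem num_ne (hp : 2 ≤ p) (hf : 1 ≤ f) : num (.f4 (p ^ f)) ≠ 0 := by
  rw [num_f4]
  have h1 := sub_ne hp hf (m := 2) (by norm_num)
  have h2 := sub_ne hp hf (m := 6) (by norm_num)
  have h3 := sub_ne hp hf (m := 8) (by norm_num)
  have h4 := sub_ne hp hf (m := 12) (by norm_num)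
  have h5 : (p ^ f) ^ 24 ≠ 0 := pow_ne_zero _ (pow_ne_zero _ (by omega))
  exact Nat.mul_ne_zero h5 (Nat.mul_ne_zero (Nat.mul_ne_zero (Nat.mul_ne_zero h1 h2) h3) h4)

theorem fac_num (hp : 2 ≤ p) (hf : 1 ≤ f) (h : Prim p (f * e) s) :
    (num (.f4 (p ^ f))).factorization s = ((p ^ f) ^ 2 - 1).factorization s + ((p ^ f) ^ 6 - 1).factorization s +
      ((p ^ f) ^ 8 - 1).factorization s + ((p ^ f) ^ 12 - 1).factorization s := by
  rw [num_f4]
  have h1 := sub_ne hp hf (m := 2) (by norm_num)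
  have h2 := sub_ne hp hf (m := 6) (by norm_num)
  have h3 := sub_ne hp hf (m := 8) (by norm_num)
  have h4 := sub_ne hp hf (m := 12) (by norm_num)
  have h5 : (p ^ f) ^ 24 ≠ 0 := pow_ne_zero _ (pow_ne_zero _ (by omega))
  have h12 := Nat.mul_ne_zero h1 h2
  have h123 := Nat.mul_ne_zero h12 h3
  rw [Nat.factorization_mul h5 (Nat.mul_ne_zero h123 h4), Nat.factorization_mul h123 h4,
    Nat.factorization_mul h12 h3, Nat.factorization_mul h1 h2]
  simp only [Finsupp.add_apply]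
  rw [fac_pow_q h 24, zero_add]

end

/-- (P4) -/
theorem val_s {p f : ℕ} (hp : p.Prime) (hf : 1 ≤ f) {s : ℕ} (hs : Prim p (f * 4) s) :
    (num (.f4 (p ^ f))).factorization s = 2 * v4 p f s := by
  rw [fac_num hp.two_le hf hs, s0 hf hs (m := 2) (by norm_num), s0 hf hs (m := 6) (by norm_num),
    s4 hp.two_le hf hs (m := 8) (by norm_num), s4 hp.two_le hf hs (m := 12) (by norm_num)]
  ring

theorem val_t {p f : ℕ} (hp : p.Prime) (hf : 1 ≤ f) {t : ℕ} (ht : Prim p (f * 3) t) :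
    (num (.f4 (p ^ f))).factorization t = 2 * w3 p f t := by
  rw [fac_num hp.two_le hf ht, t0 hf ht (m := 2) (by norm_num), t0 hf ht (m := 8) (by norm_num),
    t3 hp.two_le hf ht (m := 6) (by norm_num), t3 hp.two_le hf ht (m := 12) (by norm_num)]
  ring

theorem val_p {p f : ℕ} (hp : p.Prime) (hf : 1 ≤ f) : (num (.f4 (p ^ f))).factorization p = 24 * f := by
  have h1 : den (.f4 (p ^ f)) * num (.f4 (p ^ f)) = num (.f4 (p ^ f)) := by
    change 1 * _ = _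
    rw [one_mul]
  rw [Cfsg.Agent.H425.PartP.v_f4 hp (by omega) h1 (num_ne hp.two_le hf), mul_comm]

end Cfsg.Agent.H331.F4
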